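import Cfsg.Agent.SP.NJ3.Three

/-!
# TwoF SP-C : products in the third Janko group (helper55)

`two_cert` : an involution `z` with `x = z z^g` of order 17 and `x x^h` of order 19.  `three_cert` : every
3-subgroup of exponent 3 and order at least 27 has order 27 and contains an element `e` with `e e^g` of order 19.
-/

set_option autoImplicit false
set_option maxHeartbeats 400000

namespace Cfsg.Agent.TwoF.SpC.J3

open Subgroup Cfsg Cfsg.Spor
open Cfsg.Agent.J3.Core Cfsg.Agent.J3.Tab Cfsg.Agent.J3.Elts Cfsg.Agent.J3.Mono Cfsg.Agent.KFacts.J3W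
open Cfsg.Agent.H792.SpJ3 (pr)
open Cfsg.Agent.H547.OB.J3 (tb)
open Cfsg.Agent.H296.JT (WW card_WW)
open Cfsg.Agent.SP.NJ3 Cfsg.Agent.SP.NJ3.Dat

/-- the conjugating word -/
def wX : List ℕ := [10, 27]

/-- its table -/
def tX : List ℕ := [4, 8, 32, 48, 2, 3, 512, 768, 2048, 3072, 192, 64, 32768, 49152, 65536, 131072, 12288, 4096]

/-- the table of the inverse -/
def iX : List ℕ := [48, 16, 1, 2, 12, 4, 2048, 3072, 192, 64, 768, 256, 131072, 196608, 12288, 4096, 16384, 32768]

/-- the conjugate of the element of order 17 -/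
def yX : List ℕ := [247308, 84740, 249120, 83504, 85249, 165378, 169022, 256023, 94505, 168510, 245952, 81984, 68981,
  132762, 19829, 34458, 11008, 15616]

theorem okT_X : okT wX tX iX = true := by decide +kernel

theorem okY_X : okY tX iX (compT (tb 1) (get [] yV 1)) yX = true := by decide +kernel

theorem fin_X : pw1 (compT (compT (tb 1) (get [] yV 1)) yX) 19 = true ∧
    pw1 (compT (compT (tb 1) (get [] yV 1)) yX) 1 = false := by decide +kernel

variable {F : Type} [Field F] [Fintype F] {ω : F} (hF : Fintype.card F = 4) (H : Good ω)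
include hF H

theorem two_cert : ∃ z g h : J3 F ω, orderOf z = 2 ∧ (z * (g * z * g⁻¹)) ^ 17 = 1 ∧
    orderOf (z * (g * z * g⁻¹) * (h * (z * (g * z * g⁻¹)) * h⁻¹)) = 19 := by
  obtain ⟨G⟩ := exists_gens hF H
  have hg := rep_t H G okT_V
  have hy := rep_y hg (el_spec H G (i := 1) (by norm_num)).1 (okY_V 1)
  have hp := (el_spec H G (i := 1) (by norm_num)).1.mul hy
  have h17 := (pw_iff hF H hp 17).2 fin_V.1
  have hq := hp.mul (rep_y (rep_t H G okT_X) hp okY_X)
  have h19 := ord_prime (by norm_num) ((pw_iff hF H hq 19).2 fin_X.1) (pw_not hF H hq fin_X.2)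
  rw [el1] at h17 h19
  simp only [map_mul, map_inv] at h17 h19
  exact ⟨pr (zz G), pr (ev G wV), pr (ev G wX), ord_z H G hF, h17, h19⟩

theorem three_cert {E : Subgroup (J3 F ω)} (hE : ∀ x ∈ E, x ^ 3 = 1) (hc : 27 ≤ Nat.card E) :
    Nat.card E = 27 ∧ ∃ e ∈ E, ∃ g : J3 F ω, orderOf (e * (g * e * g⁻¹)) = 19 := by
  obtain ⟨G⟩ := exists_gens hF H
  have hfin := H296.JT.fin_j3 (iso hF H)
  have hg := rep_t H G okT_A
  have hx : RepG ω (bT 27) G.e := rep_bl G H (k := 27) (by norm_num) (by norm_num)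
  have hp := hx.mul (rep_y hg hx okY_A.1)
  have h19 := ord_prime (by norm_num) ((pw_iff hF H hp 19).2 fin_A.1) (pw_not hF H hp fin_A.2.1)
  rw [map_mul, map_mul, map_mul, map_inv] at h19
  obtain ⟨c, hc'⟩ := into_W hF H G (P := E) fun x => ⟨1, Subtype.ext (by simpa using hE x x.2)⟩
  have hle : E.comap (MulAut.conj c).toMonoidHom ≤ WW H G := fun x hx => hc' x hx (by
    have h1 := hE _ hx
    apply (MulAut.conj c).injective
    rw [map_pow, map_one]
    exact h1)
  have hcard : Nat.card (E.comap (MulAut.conj c).toMonoidHom) = Nat.card E := by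
    rw [comap_equiv_eq_map_symm']
    exact Nat.card_congr (E.equivMapOfInjective _ (MulAut.conj c).symm.injective).toEquiv.symm
  have heq : E.comap (MulAut.conj c).toMonoidHom = WW H G :=
    eq_of_le_of_card_ge hle (by rw [hcard, card_WW hF H G]; exact hc)
  refine ⟨by rw [← hcard, heq, card_WW hF H G], c * pr G.e * c⁻¹, ?_, c * pr (ev G wA) * c⁻¹, ?_⟩
  · have h1 : (pr G.e : J3 F ω) ∈ WW H G := ⟨1, 0, by rw [H792.SpJ3.a_zero H G, pow_one, mul_one]⟩
    rw [← heq] at h1
    exact h1
  · rw [← h19]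
    refine Eq.trans ?_ (orderOf_injective (MulAut.conj c).toMonoidHom (MulAut.conj c).injective _)
    congr 1
    simp only [MulEquiv.toMonoidHom_eq_coe, MonoidHom.coe_coe, MulAut.conj_apply]
    group

end Cfsg.Agent.TwoF.SpC.J3
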