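import Cfsg.Agent.TwoF.XE.Lo
import Cfsg.Agent.KFacts.J3
import Cfsg.Agent.KFacts.J3Sheet
import Cfsg.Agent.Mrg.Omega.TwoF.RowFi

/-!
# TwoF SP-C : elementary abelian 2-groups of automorphisms of the third Janko group (helper55)

An automorphism fixing the involution `z` acts on the five involutions `v i` of `Q = O₂(C(z))` by a signed permutation.
`rank_all` : the rank is at most four.  `rank_out` : the rank is at most three if the group is not inner.
-/

set_option autoImplicit false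
set_option maxHeartbeats 400000

namespace Cfsg.Agent.TwoF.SpC.J3

open Subgroup Cfsg Cfsg.Agent.J2Type.Model Cfsg.Agent.J2Type.CStruct Cfsg.Agent.J3Type.OneClass
open Cfsg.Agent.KFacts Cfsg.Agent.KFacts.J3Sheet Cfsg.Agent.TwoF.Gen

/-- a group of automorphisms of order a power of `p` fixes an element of order `p` -/
theorem exists_fix {p : ℕ} [Fact p.Prime] {K : Type*} [Group K] [Finite K] (h : p ∣ Nat.card K)
    {E : Subgroup (MulAut K)} (hE : IsPGroup p E) : ∃ t : K, orderOf t = p ∧ ∀ α ∈ E, α t = t := by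
  have h1 := hE.card_modEq_card_fixedPoints K
  have h2 : p ∣ Nat.card (FixedPoints.subgroup E K) := (h1.dvd_iff dvd_rfl).1 h
  obtain ⟨t, ht⟩ := exists_prime_orderOf_dvd_card' p h2
  exact ⟨t, by rw [orderOf_coe, ht], fun α hα => t.2 ⟨α, hα⟩⟩

set_option synthInstance.maxSize 4000 in
set_option synthInstance.maxHeartbeats 200000 in
theorem fin_sign : ∀ σ : Equiv.Perm (Fin 5), σ * σ = 1 → Equiv.Perm.sign σ ≠ 1 → ∀ τ : Equiv.Perm (Fin 5),
    τ * τ = 1 → σ * τ = τ * σ → τ ≠ 1 → τ ≠ σ → ∀ e : Fin 5, σ e = e → τ e = e → ∀ s : Fin 5 → ZMod 2, s e = 0 →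
      (∀ i, s (σ i) = s i) → (∀ i, σ i = i → s (τ i) = s i) → ∑ i, s i = 0 := by
  decide +kernel

theorem card_perm_le {B : Subgroup (Equiv.Perm (Fin 5))} (hB : IsElementaryAbelian 2 B) : Nat.card B ≤ 4 := by
  have h1 : (Equiv.swap 0 1 * Equiv.swap 1 2 * Equiv.swap 2 3 : Equiv.Perm (Fin 5)) ^ 2 ^ 2 = 1 := by decide +kernel
  have h2 : (Equiv.swap 0 1 * Equiv.swap 1 2 * Equiv.swap 2 3 : Equiv.Perm (Fin 5)) ^ 2 ≠ 1 := by decide +kernel
  refine XE.card_le_of_not_elemAb (r₀ := 2) (Q := zpowers (Equiv.swap 0 1 * Equiv.swap 1 2 * Equiv.swap 2 3)) ?_ ?_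
    (fun h => h2 (h.2 _ (mem_zpowers _))) B hB
  · rw [Nat.card_perm, Nat.card_eq_fintype_card, Fintype.card_fin]
    decide
  · rintro ⟨_, k, rfl⟩
    exact ⟨2, Subtype.ext (by
      rw [SubmonoidClass.coe_pow, coe_one, ← zpow_natCast, ← zpow_mul, mul_comm, zpow_mul, zpow_natCast, h1, one_zpow])⟩

variable {K : Type} [Group K] {z : K} {Q : Subgroup (centralizer ({z} : Set K))}
  {v : Fin 5 → centralizer ({z} : Set K)} {ρ : centralizer ({z} : Set K) →* SP}

/-- `α` acts on the `v i` as the signed permutation `g` -/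
def Sg (z : K) (v : Fin 5 → centralizer ({z} : Set K)) (α : MulAut K) (g : SP) : Prop :=
  ∀ i, α (v i : K) = ((zp (zc z) (g.s i) * v (g.σ i) : centralizer ({z} : Set K)) : K)

theorem map_zp {α : MulAut K} (hα : α z = z) (a : ZMod 2) :
    α ((zp (zc z) a : centralizer ({z} : Set K)) : K) = (zp (zc z) a : centralizer ({z} : Set K)) := by
  rcases zmod2_cases a with rfl | rfl
  · rw [zp_zero, coe_one, map_one]
  · rw [zp_one]
    exact hα

theorem Sg.unique (M : IsModel Q (zc z) v ρ) {α : MulAut K} {g h : SP} (h1 : Sg z v α g) (h2 : Sg z v α h) :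
    g = h := by
  have h3 := fun i => M.v_inj _ _ _ _ (Subtype.ext ((h1 i).symm.trans (h2 i)))
  exact SP.ext (Equiv.ext fun i => (h3 i).2) (funext fun i => (h3 i).1)

theorem Sg.mul (M : IsModel Q (zc z) v ρ) {α β : MulAut K} (hα : α z = z) {g h : SP} (h1 : Sg z v α g)
    (h2 : Sg z v β h) : Sg z v (α * β) (g * h) := fun i => by
  rw [MulAut.mul_apply, h2 i, coe_mul, map_mul, map_zp hα, h1, mul_s, mul_σ, zp_add _ M.z_sq, ← coe_mul, ← mul_assoc]
  rfl

theorem sg_conj (M : IsModel Q (zc z) v ρ) (c : centralizer ({z} : Set K)) :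
    Sg z v (MulAut.conj (c : K)) (ρ c) := fun i => congrArg Subtype.val (M.conj c i)

theorem Sg.permOf (M : IsModel Q (zc z) v ρ) {α : MulAut K} {g : SP} (h : Sg z v α g) : PermOf v α g.σ := fun i => by
  rw [h i]
  exact eqz_zp M _ _

theorem exists_sg [Finite K] (hc : Nat.card (centralizer ({z} : Set K)) = 1920) (M : IsModel Q (zc z) v ρ)
    {α : MulAut K} (hα : α z = z) : ∃ g, Sg z v α g := by
  obtain ⟨σ, hσ⟩ := exists_perm hc M hα
  have h1 : ∀ i, ∃ a, α (v i : K) = ((zp (zc z) a * v (σ i) : centralizer ({z} : Set K)) : K) := fun i => by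
    rcases hσ i with h | h
    · exact ⟨0, by rw [zp_zero, one_mul, h]⟩
    · exact ⟨1, by rw [zp_one, ← M.z_comm, h]; rfl⟩
  choose s hs using h1
  exact ⟨⟨σ, s⟩, hs⟩

theorem Sg.sum (M : IsModel Q (zc z) v ρ) {α : MulAut K} {g : SP} (h : Sg z v α g)
    (hσ : Equiv.Perm.sign g.σ ≠ 1) : ∑ i, g.s i ≠ 0 := by
  intro h0
  have h1 := congrArg (fun x : centralizer ({z} : Set K) => α x) M.v_prod
  simp only [coe_mul, map_mul, coe_one, map_one] at h1
  rw [h 0, h 1, h 2, h 3, h 4, ← coe_mul, ← coe_mul, ← coe_mul, ← coe_mul] at h1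
  have h2 := prod_perm M.z_sq M.z_comm v M.v_anti M.v_prod g.σ
  rw [if_neg hσ, zp_one] at h2
  have h3 : ∀ (a b : ZMod 2) (x y : centralizer ({z} : Set K)),
      zp (zc z) a * x * (zp (zc z) b * y) = zp (zc z) (a + b) * (x * y) := fun a b x y => by
    rw [zp_add _ M.z_sq, mul_assoc, ← mul_assoc x, zp_comm _ M.z_comm b x]
    simp only [mul_assoc]
  rw [h3, h3, h3, h3, h2, ← Fin.sum_univ_five, h0, zp_zero, one_mul] at h1
  exact M.z_ne (Subtype.ext h1)

variable {n : K} {u : centralizer ({z} : Set K)} {E : Subgroup (MulAut K)}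

theorem inner_even [Finite K] (F : J3.Facts z Q v ρ n u) {α : MulAut K} (hα : α z = z) {g : SP} (h : Sg z v α g)
    (hσ : Equiv.Perm.sign g.σ = 1) : ∃ k : centralizer ({z} : Set K), α = MulAut.conj (k : K) ∧ ρ k = g := by
  have M := F.model
  obtain ⟨k, rfl⟩ := inner_of_even F.card_C M (n₀ := n) (by rw [F.nz]; exact ⟨v 0, M.v_mem 0, rfl⟩) (by
    rw [F.nz]
    intro e
    have h1 := zv_ne_z M 0 0
    rw [zp_zero, one_mul] at h1
    exact h1 (Subtype.ext e)) F.gen hα (h.permOf M) hσ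
  have hk : k ∈ centralizer ({z} : Set K) := by
    rw [mem_centralizer_singleton_iff]
    exact mul_inv_eq_iff_eq_mul.1 hα
  exact ⟨⟨k, hk⟩, rfl, (sg_conj M ⟨k, hk⟩).unique M h⟩

/-- the action on the five classes -/
theorem exists_hom [Finite K] (F : J3.Facts z Q v ρ n u) (hz : ∀ α ∈ E, α z = z) :
    ∃ (g : E → SP) (f : E →* Equiv.Perm (Fin 5)), ∀ α : E, Sg z v α (g α) ∧ f α = (g α).σ := by
  choose g hg using fun α : E => exists_sg F.card_C F.model (hz α α.2)
  refine ⟨g, MonoidHom.mk' (fun α => (g α).σ) fun α β => ?_, fun α => ⟨hg α, rfl⟩⟩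
  rw [(hg (α * β)).unique F.model ((hg α).mul F.model (hz α α.2) (hg β)), mul_σ]

theorem ker_elt [Finite K] (F : J3.Facts z Q v ρ n u) (hZ : center K = ⊥) {α : MulAut K} (hα : α z = z)
    (h2 : α ^ 2 = 1) {g : SP} (h : Sg z v α g) (hσ : g.σ = 1) :
    ∃ k ∈ Q, α = MulAut.conj (k : K) ∧ k * k = 1 := by
  obtain ⟨k, rfl, rfl⟩ := inner_even F hα h (by rw [hσ, map_one])
  refine ⟨k, (F.model.mem_Q k).2 hσ, rfl, Subtype.ext ((XE.conj_eq_one_iff hZ).1 ?_)⟩
  rw [coe_mul, map_mul, ← pow_two, h2]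

theorem card_ker_le [Finite K] (F : J3.Facts z Q v ρ n u) (hZ : center K = ⊥) (hE : IsElementaryAbelian 2 E)
    (hz : ∀ α ∈ E, α z = z) {g : E → SP} {f : E →* Equiv.Perm (Fin 5)}
    (hf : ∀ α : E, Sg z v α (g α) ∧ f α = (g α).σ) : Nat.card f.ker ≤ 4 := by
  have h1 : ∀ α ∈ f.ker.map E.subtype, ∃ k ∈ Q, α = MulAut.conj (k : K) ∧ k * k = 1 := by
    rintro _ ⟨α, hα, rfl⟩
    exact ker_elt F hZ (hz α α.2) (hE.2 α α.2) (hf α).1 ((hf α).2.symm.trans hα)
  have hi : Function.Injective (MulAut.conj : K →* MulAut K) :=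
    (injective_iff_map_eq_one _).2 fun x => (XE.conj_eq_one_iff hZ).1
  have h2 := Omega.TwoF.RowJ3.card_le_Q F.model ((f.ker.map E.subtype).comap MulAut.conj) (fun x hx => by
    obtain ⟨k, hk, e, -⟩ := h1 _ hx
    exact ⟨k, hk, (hi e).symm⟩) (fun x hx => by
    obtain ⟨k, -, e, hk⟩ := h1 _ hx
    rw [hi e]
    exact congrArg Subtype.val hk)
  rw [← card_map_of_injective hi, map_comap_eq_self (fun α hα => by
    obtain ⟨k, -, e, -⟩ := h1 α hα
    exact ⟨k, e.symm⟩), card_map_of_injective E.subtype_injective] at h2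
  exact h2

theorem card_eq {G H : Type*} [Group G] [Group H] (f : G →* H) : Nat.card G = Nat.card f.ker * Nat.card f.range := by
  rw [← index_ker, card_mul_index]

theorem range_elemAb (hE : IsElementaryAbelian 2 E) (f : E →* Equiv.Perm (Fin 5)) : IsElementaryAbelian 2 f.range := by
  refine ⟨⟨⟨?_⟩⟩, ?_⟩
  · rintro ⟨_, a, rfl⟩ ⟨_, b, rfl⟩
    refine Subtype.ext ?_
    rw [coe_mul, coe_mul, ← map_mul, ← map_mul, hE.1.is_comm.comm]
  · rintro _ ⟨a, rfl⟩
    rw [← map_pow, show a ^ 2 = 1 from Subtype.ext (hE.2 a a.2), map_one]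

theorem fix_all [Finite K] (F : J3.Facts z Q v ρ n u) (hZ : center K = ⊥) (hE : IsElementaryAbelian 2 E)
    (hz : ∀ α ∈ E, α z = z) : Nat.card E ≤ 16 := by
  obtain ⟨g, f, hf⟩ := exists_hom F hz
  rw [card_eq f]
  exact Nat.mul_le_mul (card_ker_le F hZ hE hz hf) (card_perm_le (range_elemAb hE f))

theorem fix_out [Finite K] (F : J3.Facts z Q v ρ n u) (hZ : center K = ⊥) (hE : IsElementaryAbelian 2 E)
    (hz : ∀ α ∈ E, α z = z) (hn : ¬ E ≤ Inn K) : Nat.card E ≤ 8 := by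
  have M := F.model
  obtain ⟨g, f, hf⟩ := exists_hom F hz
  obtain ⟨α, hα, hα'⟩ := SetLike.not_le_iff_exists.1 hn
  lift α to E using hα
  have hs : Equiv.Perm.sign (g α).σ ≠ 1 := fun e => by
    obtain ⟨k, hk, -⟩ := inner_even F (hz α α.2) (hf α).1 e
    exact hα' ⟨k, hk.symm⟩
  have hm : ∀ a b : E, g (a * b) = g a * g b := fun a b =>
    (hf (a * b)).1.unique M ((hf a).1.mul M (hz a a.2) (hf b).1)
  have hsq : ∀ a : E, a * a = 1 := fun a => Subtype.ext (by rw [← pow_two]; exact hE.2 a a.2)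
  have hg1 : g 1 = 1 := by
    have := hm 1 1
    rwa [mul_one, left_eq_mul] at this
  rw [card_eq f]
  by_cases hb : ∀ β : E, f β = 1 ∨ f β = f α
  · refine Nat.mul_le_mul (card_ker_le F hZ hE hz hf) (?_ : _ ≤ 2)
    have h1 : (f.range : Set (Equiv.Perm (Fin 5))) ⊆ {1, f α} := by
      rintro _ ⟨β, rfl⟩
      exact hb β
    exact (Set.ncard_le_ncard h1).trans (Set.ncard_insert_le _ _ |>.trans (by rw [Set.ncard_singleton]))
  push Not at hb
  obtain ⟨β, hb1, hb2⟩ := hb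
  refine Nat.mul_le_mul (?_ : _ ≤ 2) (card_perm_le (range_elemAb hE f))
  rw [← card_map_of_injective E.subtype_injective]
  have h1 : (f.ker.map E.subtype : Set (MulAut K)) ⊆ {1, MulAut.conj z} := by
    rintro _ ⟨γ, hγ, rfl⟩
    obtain ⟨k, hk, e, hk2⟩ := ker_elt F hZ (hz γ γ.2) (hE.2 γ γ.2) (hf γ).1 ((hf γ).2.symm.trans hγ)
    by_cases k1 : k = 1
    · left
      rw [coe_subtype, e, k1, coe_one, map_one]
    rcases invol_Q M hk hk2 k1 with h | ⟨a, i, h⟩
    · right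
      rw [coe_subtype, e, h]
      rfl
    exfalso
    have hfix : ∀ δ : E, (g δ).s i = 0 ∧ (g δ).σ i = i := fun δ => by
      have h3 : (δ : MulAut K) (k : K) = k := by
        have h4 : (δ : MulAut K) * γ = γ * δ := congrArg Subtype.val (hE.1.is_comm.comm δ γ)
        rw [← mul_inv_eq_iff_eq_mul, e, ← XE.conj_apply, ← mul_inv_eq_one, ← map_inv, ← map_mul,
          XE.conj_eq_one_iff hZ] at h4
        exact mul_inv_eq_one.1 h4
      rw [h, coe_mul, map_mul, map_zp (hz δ δ.2), mul_right_inj, (hf δ).1 i] at h3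
      exact M.v_inj _ 0 _ _ (by rw [zp_zero, one_mul]; exact Subtype.ext h3)
    refine (hf α).1.sum M hs (fin_sign (g α).σ ?_ hs (g β).σ ?_ ?_ ?_ ?_ i (hfix α).2 (hfix β).2 _ (hfix α).1 ?_ ?_)
    · rw [← mul_σ, ← hm, hsq, hg1, one_σ]
    · rw [← mul_σ, ← hm, hsq, hg1, one_σ]
    · rw [← mul_σ, ← hm, hE.1.is_comm.comm, hm, mul_σ]
    · rwa [← (hf β).2]
    · rwa [← (hf β).2, ← (hf α).2]
    · intro j
      have h3 := mul_s (g α) (g α) j
      rw [← hm, hsq, hg1, one_s, eq_comm, add_eq_zero_iff_eq_neg, ZMod.neg_eq_self_mod_two] at h3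
      exact h3.symm
    · intro j hj
      have h3 := mul_s (g α) (g β) j
      rw [← hm, hE.1.is_comm.comm, hm, mul_s, hj, add_comm, add_right_inj] at h3
      exact h3.symm
  exact (Set.ncard_le_ncard h1).trans (Set.ncard_insert_le _ _ |>.trans (by rw [Set.ncard_singleton]))

/-- every 2-group of automorphisms is conjugate to one that fixes `z` -/
theorem exists_conj_fix [Finite K] (F : J3.Facts z Q v ρ n u) (hE : IsPGroup 2 E) :
    ∃ β : MulAut K, ∀ α ∈ E.map (MulAut.conj β).toMonoidHom, α z = z := by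
  obtain ⟨t, ht, h⟩ := exists_fix (p := 2) (by rw [F.card_K]; norm_num) hE
  obtain ⟨g, rfl⟩ := F.one t (fun e => by rw [e, orderOf_one] at ht; omega)
    (by rw [← pow_two, ← ht, pow_orderOf_eq_one])
  refine ⟨(MulAut.conj g)⁻¹, ?_⟩
  rintro _ ⟨α, hα, rfl⟩
  show (MulAut.conj g)⁻¹ (α ((MulAut.conj g)⁻¹⁻¹ z)) = z
  rw [inv_inv, MulAut.conj_apply, h α hα, MulAut.conj_inv_apply]
  group

theorem card_conj (β : MulAut K) : Nat.card (E.map (MulAut.conj β).toMonoidHom) = Nat.card E :=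
  card_map_of_injective (MulAut.conj β).injective

theorem rank_all [Finite K] (F : J3.Facts z Q v ρ n u) (hZ : center K = ⊥) (hE : IsElementaryAbelian 2 E) :
    Nat.card E ≤ 16 := by
  obtain ⟨β, h⟩ := exists_conj_fix F (elemAb_isPGroup hE)
  rw [← card_conj β]
  exact fix_all F hZ (elemAb_map hE _) h

theorem rank_out [Finite K] (F : J3.Facts z Q v ρ n u) (hZ : center K = ⊥) (hE : IsElementaryAbelian 2 E)
    (hn : ¬ E ≤ Inn K) : Nat.card E ≤ 8 := by
  obtain ⟨β, h⟩ := exists_conj_fix F (elemAb_isPGroup hE)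
  rw [← card_conj β]
  exact fix_out F hZ (elemAb_map hE _) h (XE.not_le_inn_conj β hn)

end Cfsg.Agent.TwoF.SpC.J3
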