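import Cfsg.Agent.TwoF.SpC.J1
import Cfsg.Agent.TwoF.SpC.J3.Cert
import Cfsg.Agent.TwoF.SpC.J3.Rank
import Cfsg.Agent.S2067

/-!
# TwoF SP-C : the row of the third Janko group (helper55)
-/

set_option autoImplicit false
set_option maxHeartbeats 400000

namespace Cfsg.Agent.TwoF.SpC.J3

open Subgroup Cfsg Cfsg.Spor Cfsg.Agent.J2Type.Model Cfsg.Agent.J2Type.CStruct Cfsg.Agent.J3Type.OneClass
open Cfsg.Agent.KFacts Cfsg.Agent.TwoF.Gen Cfsg.Agent.TwoF.XE Cfsg.Agent.J3.Core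

section gen

variable {p : ℕ} [Fact p.Prime] {S : Type} [Group S]

/-- the codimension for an automorphism of prime order `s` is a multiple of the order of `p` modulo `s` -/
theorem le_up {α : MulAut S} {s n c : ℕ} (hs : s.Prime) (hsp : s ≠ p) (h2 : α ^ s = 1) (h : Le p α n)
    (hn : ∀ d < c, n ≤ d → p ^ d % s ≠ 1 % s) : Le p α c := le_of_elt fun Y _ _ V _ _ _ K ρ π φ H y hy => by
  have : Fact s.Prime := ⟨hs⟩
  obtain ⟨k, m, hm, e⟩ := Nat.exists_eq_pow_mul_and_not_dvd (orderOf_pos y).ne' s hs.one_lt.ne'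
  have h0 : m ≠ 0 := fun e => hm (e ▸ dvd_zero s)
  have h1 : IsPGroup s (zpowers (y ^ m)) := IsPGroup.of_card (n := k) (by
    rw [Nat.card_zpowers, orderOf_pow' y h0, e, Nat.gcd_eq_right (dvd_mul_left _ _),
      Nat.mul_div_cancel _ (Nat.pos_of_ne_zero h0)])
  have h3 : n ≤ cod ρ (zpowers (y ^ m)) := h Y V K ρ π φ H _ (by
    rw [MonoidHom.map_zpowers, map_pow, hy, zpowers_le, mem_zpowers_pow_iff]
    exact (((Nat.Prime.coprime_iff_not_dvd hs).2 hm).symm.coprime_dvd_right (orderOf_dvd_of_pow_eq_one h2)))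
  have h4 := pow_cod_modEq (ρ := ρ) (s := s) (by
    rw [Nat.card_zmod]
    exact fun e => hsp ((Nat.prime_dvd_prime_iff_eq hs Fact.out).1 e)) h1
  rw [Nat.card_zmod] at h4
  exact (le_of_not_gt fun e => hn _ e h3 h4).trans (XL.cod_le_of_mem (pow_mem (mem_zpowers y) m))

theorem li_ord (hZ : center S = ⊥) {x : S} {s n : ℕ} (hs : s.Prime) (hsp : s ≠ p) (hx : orderOf x = s)
    (hn : ∀ d < n, 0 < d → p ^ d % s ≠ 1 % s) : Li p x n :=
  Li.of_prime hZ hs hsp (fun e => by rw [e, orderOf_one] at hx; exact hs.one_lt.ne hx)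
    (by rw [← hx, pow_orderOf_eq_one]) fun d h1 h2 => hn d h2 h1

theorem conj_inj (hZ : center S = ⊥) : Function.Injective (MulAut.conj : S →* MulAut S) :=
  (injective_iff_map_eq_one _).2 fun _ => (conj_eq_one_iff hZ).1

theorem exists_inner_two [Finite S] (hZ : center S = ⊥) (ho : Nat.card (Out S) = 2) {E : Subgroup (MulAut S)}
    (hE : IsElementaryAbelian 2 E) (h : 2 < Nat.card E) : ∃ t : S, t ≠ 1 ∧ t * t = 1 ∧ MulAut.conj t ∈ E := by
  have : Finite (Out S) := Nat.finite_of_card_ne_zero (by rw [ho]; norm_num)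
  have h1 := card_eq ((QuotientGroup.mk' (Inn S)).comp E.subtype)
  have h2 : Nat.card ((QuotientGroup.mk' (Inn S)).comp E.subtype).range ≤ 2 := ho ▸ card_le_card_group _
  have h3 : ((QuotientGroup.mk' (Inn S)).comp E.subtype).ker ≠ ⊥ := fun e => by
    rw [e, card_bot] at h1
    omega
  obtain ⟨⟨α, hα⟩, h4⟩ := ne_bot_iff_exists_ne_one.1 h3
  obtain ⟨t, ht⟩ : (α : MulAut S) ∈ Inn S := (QuotientGroup.eq_one_iff _).1 hα
  refine ⟨t, fun e => h4 (Subtype.ext (Subtype.ext ?_)), (conj_eq_one_iff hZ).1 ?_, ht ▸ α.2⟩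
  · rw [e, map_one] at ht
    exact ht.symm
  · rw [map_mul, ht, ← pow_two, hE.2 α α.2]

end gen

section two

variable {K : Type} [Group K] [Finite K] {z : K} {Q : Subgroup (centralizer ({z} : Set K))}
  {v : Fin 5 → centralizer ({z} : Set K)} {ρ : centralizer ({z} : Set K) →* SP} {n : K}
  {u : centralizer ({z} : Set K)}

/-- an outer automorphism fixing `z` -/
theorem le_out (F : J3.Facts z Q v ρ n u) (hz : Li 2 z 8) {α : MulAut K} (hα : α z = z) (hn : α ∉ Inn K) :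
    Le 2 α 3 := by
  have M := F.model
  obtain ⟨g, hg⟩ := exists_sg F.card_C M hα
  obtain ⟨a, ha⟩ : ∃ a, g.σ a ≠ a := by
    by_contra h
    push Not at h
    obtain ⟨k, hk, -⟩ := inner_even F hα hg (by rw [show g.σ = 1 from Equiv.ext h, map_one])
    exact hn ⟨k, hk.symm⟩
  refine Le.comm (v a : K) (Li.of_pow 2 (n := 8) ?_) (by norm_num)
  have h1 : (zp (zc z) (g.s a) * v (g.σ a) * (v a)⁻¹) ^ 2 = zc z := by
    rw [inv_eq_of_mul_eq_one_right (M.v_sq a), mul_assoc, (show Commute _ _ from (zp_comm _ M.z_comm _ _).symm).mul_pow,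
      pow_two, zp_self _ M.z_sq, one_mul, pow_two]
    nth_rewrite 1 [M.v_anti _ _ ha]
    rw [mul_assoc, mul_assoc, ← mul_assoc (v (g.σ a)), M.v_sq, one_mul, M.v_sq, mul_one]
  rw [hg a, ← coe_inv, ← coe_mul, ← SubmonoidClass.coe_pow, h1]
  exact hz

theorem row_two (F : J3.Facts z Q v ρ n u) (hZ : center K = ⊥) (ho : Nat.card (Out K) = 2) (hz : Li 2 z 8) :
    Row 2 K := by
  have h1 : ∀ E : Subgroup (MulAut K), IsElementaryAbelian 2 E → 2 < Nat.card E → ∃ d ∈ E, Le 2 d 8 := fun E hE h => by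
    obtain ⟨t, t1, t2, ht⟩ := exists_inner_two hZ ho hE h
    obtain ⟨g, rfl⟩ := F.one t t1 t2
    exact ⟨_, ht, hz.conj g⟩
  have h2 : ∀ {r e : ℕ}, 2 ^ r ≤ 2 ^ e → r ≤ e := fun h => (Nat.pow_le_pow_iff_right (by norm_num)).1 h
  refine ⟨row88_two fun E hE r hr hc => Or.inr ?_, row89_of_lo fun E hE hn r hr hc => ?_⟩
  · obtain ⟨d, hd, h⟩ := h1 E hE (hc ▸ lt_of_lt_of_le (by norm_num) (Nat.pow_le_pow_right (by norm_num) hr))
    have := h2 (e := 4) (hc ▸ rank_all F hZ hE)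
    exact ⟨d, hd, h.le (by omega)⟩
  have h3 := h2 (e := 3) (hc ▸ rank_out F hZ hE hn)
  by_cases h4 : r = 1
  · obtain ⟨β, h⟩ := exists_conj_fix F (elemAb_isPGroup hE)
    obtain ⟨α, hα, hα'⟩ := SetLike.not_le_iff_exists.1 (not_le_inn_conj β hn)
    exact Lo.of_conj β (((le_out F hz (h α hα) hα').lo hα).le (by omega))
  · obtain ⟨d, hd, h⟩ := h1 E hE
      (hc ▸ lt_of_lt_of_le (by norm_num) (Nat.pow_le_pow_right (by norm_num) (show 2 ≤ r by omega)))
    exact (h.lo hd).le (by omega)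

end two

section model

variable {F : Type} [Field F] [Fintype F] {ω : F}

theorem row_model (hF : Fintype.card F = 4) (hω : ω ^ 2 + ω + 1 = 0) (p : ℕ) [hp : Fact p.Prime] :
    Row p (J3 F ω) := by
  have H := good_of_card hF hω
  obtain ⟨hs, z, Q, v, ρ, n, u, X⟩ := J3.exists_facts (SP.NJ3.iso hF H)
  have hfin : Finite (J3 F ω) := Nat.finite_of_card_ne_zero (by rw [X.card_K]; norm_num)
  have hZ : center (J3 F ω) = ⊥ := OddHalf.Table.OutBasic.center_eq_bot (by rw [X.card_K]; norm_num)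
  have ho := S2067.result hF ω hω
  by_cases h2 : p = 2
  · subst h2
    obtain ⟨t, g, h, ht, h17, h19⟩ := two_cert hF H
    have l19 := li_ord (p := 2) (n := 18) hZ (by norm_num) (by norm_num) h19 (by decide)
    have l17 : Li 2 (t * (g * t * g⁻¹)) 16 := le_up (s := 17) (by norm_num) (by norm_num)
      (by rw [← map_pow, h17, map_one]) (Li.two (c := 9) h l19 (by norm_num)) (by decide)
    obtain ⟨c, hc⟩ := X.one t (fun e => by rw [e, orderOf_one] at ht; omega)
      (by rw [← pow_two, ← ht, pow_orderOf_eq_one])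
    exact row_two X hZ ho ((Li.two (c := 8) g l17 (by norm_num)).of_isConj (isConj_iff.2 ⟨c, hc⟩).symm)
  have ho' : ¬ p ∣ Nat.card (Out (J3 F ω)) := fun e =>
    h2 ((Nat.prime_dvd_prime_iff_eq hp.out Nat.prime_two).1 (ho ▸ e))
  by_cases h3 : p = 3
  · subst h3
    refine ⟨row88_of_lo fun E hE r hr hc => ?_, row89_of_not_dvd ho'⟩
    have h4 : E ≤ Inn (J3 F ω) := fun α hα => by
      by_cases e : α = 1
      · exact e ▸ one_mem _
      · obtain ⟨x, hx, -⟩ := exists_inner hZ ho' e (hE.2 α hα)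
        exact ⟨x, hx.symm⟩
    have h5 : Nat.card (E.comap (MulAut.conj : J3 F ω →* _)) = 3 ^ r := by
      rw [← card_map_of_injective (conj_inj hZ), map_comap_eq_self h4, hc]
    rw [small_three] at hr
    obtain ⟨h6, e, he, g, h19⟩ := three_cert hF H (E := E.comap MulAut.conj)
      (fun x hx => (conj_eq_one_iff hZ).1 (by rw [map_pow]; exact hE.2 _ hx))
      (h5 ▸ Nat.pow_le_pow_right (n := 3) (i := 3) (by norm_num) hr)
    have h7 : r = 3 := Nat.pow_right_injective (a := 3) (a₂ := 3) (by norm_num) (h5.symm.trans h6)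
    have l19 := li_ord (p := 3) (n := 18) hZ (by norm_num) (by norm_num) h19 (by decide)
    exact ((Li.two (c := 7) g l19 (by norm_num)).lo he).le (by omega)
  refine row_of_not_sq ho' ?_
  rw [X.card_K, show 50232960 = 2 ^ 7 * 3 ^ 5 * 1615 by norm_num]
  exact not_sq_dvd hp.out (Nat.Coprime.mul_right (((Nat.coprime_primes hp.out Nat.prime_two).2 h2).pow_right 7)
    (((Nat.coprime_primes hp.out Nat.prime_three).2 h3).pow_right 5)) (by decide +kernel)

end model

/-- **the row of `J3`** -/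
theorem row (S : Type) [Group S] (h : IsoJ3 S) (p : ℕ) [Fact p.Prime] : Row p S := by
  obtain ⟨F, _, _, ω, hF, hω, ⟨e⟩⟩ := h
  exact (row_model hF hω p).of_equiv e

end Cfsg.Agent.TwoF.SpC.J3
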